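import Groth.Prelude.Def_W4c2seshadriposJets
import Groth.Agent.OmegaLib.IdealMod
import Groth.Agent.QCoh.Sections
import Groth.Agent.QCoh.Ab.MV
import Groth.Agent.SiteBase.Top
import Groth.Agent.QCoh.HHExact
import Groth.Agent.KFlatLib.Scheme.TensorStalk

/-!
# Comparing the ideals of powers of a closed point
-/

set_option autoImplicit false
set_option linter.style.haveILetI false
set_option linter.unusedSectionVars false
set_option backward.isDefEq.respectTransparency false
set_option backward.isDefEq.respectTransparency.types false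
set_option maxHeartbeats 400000

universe u

open CategoryTheory CategoryTheory.Limits CategoryTheory.Abelian AlgebraicGeometry TopologicalSpace Opposite

namespace Groth.Agent.Seshadri

variable {X : Scheme.{u}}

/-- A sheaf whose stalks vanish off a finite set of closed points has no higher cohomology. -/
theorem subsingleton_HH_of_finite_stalks {M : X.Modules} {T : Set X} (hT : T.Finite)
    (hcl : ∀ x ∈ T, IsClosed ({x} : Set X)) (h0 : ∀ x, x ∉ T → Subsingleton (M.presheaf.stalk x))
    (n : ℕ) : Subsingleton (Coh.HH X M (n + 1)) := by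
  have hTc : ∀ T' : Set X, T' ⊆ T → IsClosed T' := fun T' h => by
    have := Set.Finite.isClosed_biUnion (hT.subset h) (f := fun y => ({y} : Set X)) fun y hy => hcl y (h hy)
    rwa [Set.biUnion_of_singleton] at this
  have hzero : ∀ (W : X.Opens), (∀ x ∈ W, x ∉ T) → ∀ s : Γ(M, W), s = 0 := fun W hW s => by
    refine QCoh.eq_zero_of_locally W s fun x hx => ?_
    haveI := h0 x (hW x hx)
    obtain ⟨V, hxV, i, j, h⟩ := M.presheaf.germ_eq x hx hx s 0 (Subsingleton.elim _ _)
    exact ⟨V, i, hxV, h.trans (map_zero _)⟩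
  have hfl : TopCat.Sheaf.IsFlasque (X := X.toPresheafedSpace.carrier) ⟨M.presheaf, M.isSheaf⟩ := ⟨fun {A B} f => by
    refine (AddCommGrpCat.epi_iff_surjective _).2 fun s => ?_
    let W : X.Opens := ⟨(A.unop : Set X) ∩ (T ∩ (B.unop : Set X))ᶜ,
      A.unop.2.inter (hTc _ Set.inter_subset_left).isOpen_compl⟩
    let V : Bool → X.Opens := fun b => cond b B.unop W
    let hV : ∀ b, V b ⟶ A.unop := fun b => homOfLE (by cases b; exacts [fun z hz => hz.1, f.unop.le])
    let sec : ∀ b, Γ(M, V b) := fun b => Bool.rec (motive := fun b => Γ(M, V b)) 0 s b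
    obtain ⟨t, ht, -⟩ := TopCat.Sheaf.existsUnique_gluing' ⟨M.presheaf, M.isSheaf⟩ V A.unop hV
      (fun z hz => by
        by_cases hzB : z ∈ B.unop
        · exact Opens.mem_iSup.2 ⟨true, hzB⟩
        · exact Opens.mem_iSup.2 ⟨false, hz, fun h => hzB h.2⟩) sec
      (fun a b => by
        cases a <;> cases b
        · rfl
        · exact ((hzero (W ⊓ B.unop) (fun z hz hzS => hz.1.2 ⟨hzS, hz.2⟩) _).trans
            (hzero (W ⊓ B.unop) (fun z hz hzS => hz.1.2 ⟨hzS, hz.2⟩) _).symm)
        · exact ((hzero (B.unop ⊓ W) (fun z hz hzS => hz.2.2 ⟨hzS, hz.1⟩) _).trans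
            (hzero (B.unop ⊓ W) (fun z hz hzS => hz.2.2 ⟨hzS, hz.1⟩) _).symm)
        · rfl)
    exact ⟨t, ht true⟩⟩
  exact QCoh.Ab.subsingleton_H_of_HU_top (X := X.toPresheafedSpace.carrier) (Coh.toAb M) (n + 1)
    (@SiteBase.subsingleton_HU_of_isFlasque _ (Coh.toAb M) hfl ⊤ n)

theorem idealι_comp_toSubscheme {I J : X.IdealSheafData} (h : I ≤ J) :
    ClSub.idealModι I ≫ ClSub.toSubscheme J = 0 := by
  ext U k
  show J.subschemeι.app U (OmegaSh.idealSect I U k) = 0
  rw [Scheme.Hom.congr_app (Scheme.IdealSheafData.inclusion_subschemeι h).symm U]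
  simp [OmegaLib.subschemeι_app_idealSect]

/-- The inclusion of the module of a smaller ideal. -/
noncomputable def idealIncl {I J : X.IdealSheafData} (h : I ≤ J) : ClSub.idealMod I ⟶ ClSub.idealMod J :=
  kernel.lift _ (ClSub.idealModι I) (idealι_comp_toSubscheme h)

theorem idealIncl_ι {I J : X.IdealSheafData} (h : I ≤ J) :
    idealIncl h ≫ ClSub.idealModι J = ClSub.idealModι I :=
  kernel.lift_ι _ _ _

theorem isIso_stalk_idealModι (I : X.IdealSheafData) {y : X} (hy : y ∉ (I.support : Set X)) :
    IsIso ((DerSch.stalkFunctor X y).map (ClSub.idealModι I)) := by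
  have hsub : Subsingleton (((DerSch.stalkFunctor X y).obj (ClSub.quotMod I) : Type u)) := by
    refine subsingleton_of_forall_eq 0 fun m => ?_
    obtain ⟨U, hyU, s, hs⟩ := (ClSub.quotMod I).presheaf.exists_germ_eq (x := y) m
    let V : X.Opens := ⟨(U : Set X) ∩ (I.support : Set X)ᶜ, U.2.inter I.support.isClosed.isOpen_compl⟩
    have hVU : V ≤ U := fun z hz => hz.1
    have he : I.subschemeι ⁻¹ᵁ V = ⊥ := by
      ext z
      refine ⟨fun hz => (hz.2 ?_).elim, fun hz => hz.elim⟩
      rw [← I.range_subschemeι]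
      exact Set.mem_range_self z
    haveI : Subsingleton Γ(I.subscheme, I.subschemeι ⁻¹ᵁ V) := by rw [he]; infer_instance
    have h0 : (ClSub.quotMod I).presheaf.map (homOfLE hVU).op s = 0 :=
      @Subsingleton.elim _ (show Subsingleton Γ(I.subscheme, I.subschemeι ⁻¹ᵁ V) from inferInstance) _ _
    rw [← hs, ← (ClSub.quotMod I).presheaf.germ_res_apply (homOfLE hVU) y
      (show y ∈ V from ⟨hyU, hy⟩), h0]
    exact map_zero _
  have hz : IsZero ((DerSch.stalkFunctor X y).obj (ClSub.quotMod I)) :=
    @ModuleCat.isZero_of_subsingleton _ _ _ hsub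
  let e := PreservesKernel.iso (DerSch.stalkFunctor X y) (ClSub.toSubscheme I)
  haveI : IsIso (kernel.ι ((DerSch.stalkFunctor X y).map (ClSub.toSubscheme I))) :=
    ⟨⟨kernel.lift _ (𝟙 _) (hz.eq_of_tgt _ _), by rw [← cancel_mono (kernel.ι _)]; simp, by simp⟩⟩
  have he := PreservesKernel.iso_hom (DerSch.stalkFunctor X y) (ClSub.toSubscheme I)
  have : (DerSch.stalkFunctor X y).map (ClSub.idealModι I) =
      e.hom ≫ kernel.ι ((DerSch.stalkFunctor X y).map (ClSub.toSubscheme I)) := by
    rw [he]
    exact (kernelComparison_comp_ι _ _).symm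
  rw [this]
  infer_instance

theorem isIso_stalk_idealIncl {I J : X.IdealSheafData} (h : I ≤ J) {y : X}
    (hy : y ∉ (I.support : Set X)) : IsIso ((DerSch.stalkFunctor X y).map (idealIncl h)) := by
  haveI := isIso_stalk_idealModι I hy
  haveI := isIso_stalk_idealModι J (fun hJ => hy (Scheme.IdealSheafData.support_antitone h hJ))
  have e := congrArg (DerSch.stalkFunctor X y).map (idealIncl_ι h)
  rw [Functor.map_comp] at e
  haveI : IsIso ((DerSch.stalkFunctor X y).map (idealIncl h) ≫
      (DerSch.stalkFunctor X y).map (ClSub.idealModι J)) := by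
    rw [e]; infer_instance
  exact IsIso.of_isIso_comp_right _ ((DerSch.stalkFunctor X y).map (ClSub.idealModι J))

theorem isIso_stalk_tensor {M N : X.Modules} (φ : M ⟶ N) (T : X.Modules) (y : X)
    [IsIso ((DerSch.stalkFunctor X y).map φ)] :
    IsIso ((DerSch.stalkFunctor X y).map ((DCoh.tensorBi.map φ).app T)) := by
  have := (KFlatLib.stalkTensorRightIso T y).hom.naturality φ
  haveI : IsIso ((DerSch.stalkFunctor X y ⋙ MonoidalCategory.tensorRight
      ((DerSch.stalkFunctor X y).obj T)).map φ) :=
    inferInstanceAs (IsIso ((MonoidalCategory.tensorRight _).map ((DerSch.stalkFunctor X y).map φ)))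
  exact ((NatIso.isIso_map_iff (KFlatLib.stalkTensorRightIso T y) φ).2 inferInstance :)

/-- A morphism which is an isomorphism on stalks off a closed point reflects vanishing of `H¹`. -/
theorem subsingleton_HH_one_of_isIso_stalks {A B : X.Modules} (φ : A ⟶ B) (x : X)
    (hx : IsClosed ({x} : Set X)) (h : ∀ y, y ≠ x → IsIso ((DerSch.stalkFunctor X y).map φ))
    (hA : Subsingleton (Coh.HH X A 1)) : Subsingleton (Coh.HH X B 1) := by
  have hK : ∀ n, Subsingleton (Coh.HH X (kernel φ) (n + 1)) :=
    subsingleton_HH_of_finite_stalks (Set.finite_singleton x)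
      (fun y hy => by rw [Set.mem_singleton_iff] at hy; rw [hy]; exact hx) fun y hy => by
      haveI := h y hy
      have hz : IsZero ((DerSch.stalkFunctor X y).obj (kernel φ)) :=
        (isZero_kernel_of_mono _).of_iso (PreservesKernel.iso (DerSch.stalkFunctor X y) φ)
      exact ModuleCat.subsingleton_of_isZero hz
  have hC : ∀ n, Subsingleton (Coh.HH X (cokernel φ) (n + 1)) :=
    subsingleton_HH_of_finite_stalks (Set.finite_singleton x)
      (fun y hy => by rw [Set.mem_singleton_iff] at hy; rw [hy]; exact hx) fun y hy => by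
      haveI := h y hy
      have hz : IsZero ((DerSch.stalkFunctor X y).obj (cokernel φ)) :=
        (isZero_cokernel_of_epi _).of_iso (PreservesCokernel.iso (DerSch.stalkFunctor X y) φ)
      exact ModuleCat.subsingleton_of_isZero hz
  let S₁ := ShortComplex.mk (kernel.ι φ) (Abelian.factorThruImage φ)
    (by rw [← cancel_mono (Abelian.image.ι φ)]; simp)
  have hS₁ : S₁.ShortExact :=
    { exact := ShortComplex.exact_of_f_is_kernel _ (KernelFork.IsLimit.ofι _ _
        (fun {W} g hg => kernel.lift φ g (by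
          rw [← Abelian.image.fac φ, reassoc_of% (show g ≫ Abelian.factorThruImage φ = 0 from hg), zero_comp]))
        (fun {W} g hg => kernel.lift_ι _ _ _)
        (fun {W} g hg m hm => by rw [← cancel_mono (kernel.ι φ), hm, kernel.lift_ι])) }
  let S₂ := ShortComplex.mk (Abelian.image.ι φ) (cokernel.π φ) (kernel.condition _)
  have hS₂ : S₂.ShortExact := { exact := ShortComplex.exact_of_f_is_kernel _ (kernelIsKernel _) }
  have hI : Subsingleton (Coh.HH X (Abelian.image φ) 1) := by
    have hT : (S₁.map (QCoh.toAbFunctor X)).ShortExact := QCoh.toAb_shortExact hS₁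
    refine subsingleton_of_forall_eq 0 fun z => ?_
    obtain ⟨w, hw⟩ := Ext.covariant_sequence_exact₃ _ hT z rfl ((hK 1).elim _ _)
    rw [← hw, hA.elim w 0]
    exact Ext.zero_comp _ _ _ _ _
  exact QCoh.subsingleton_HH_X₂ hS₂ 1 hI (hC 0)

end Groth.Agent.Seshadri
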